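import Groth.Agent.DepthExt5.Main
import Groth.Agent.EtFound.JContGen
import Groth.Agent.LocCohLib.Excision

/-! depth and restriction maps on cohomology -/

set_option autoImplicit false
set_option backward.isDefEq.respectTransparency false
set_option backward.isDefEq.respectTransparency.types false
universe u

open CategoryTheory CategoryTheory.Limits AlgebraicGeometry Opposite CategoryTheory.Abelian

noncomputable section

namespace Groth.Agent.DepthExt5

open Groth.Agent.EtMVLib Groth.Agent.LocCohLib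

variable {X U : Scheme.{u}} (j : U ⟶ X) [IsOpenImmersion j] [EtCoh.BCCont j]

theorem bijective_Hpull_iff [PreservesFiniteLimits (EtCoh.pull j)] (G : EtCoh.Ab X) (p : ℕ) :
    (Function.Bijective (EtCore.Hpull j G p) ↔
      Function.Bijective fun x : Ext (EtCoh.const X ℤ) G p =>
        (Ext.mk₀ (shriekZTo j)).comp x (zero_add p)) ∧
    (Function.Injective (EtCore.Hpull j G p) ↔
      Function.Injective fun x : Ext (EtCoh.const X ℤ) G p =>
        (Ext.mk₀ (shriekZTo j)).comp x (zero_add p)) := by
  haveI := preservesMono_extZero j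
  haveI := LocCohLib.pull_additive j
  haveI : PreservesFiniteColimits (EtCoh.pull j) :=
    haveI := (EtCoh.pullPushAdj j).leftAdjoint_preservesColimits; inferInstance
  have h : ⇑(EtCore.Hpull j G p) = adjExtMap (shriekAdj j) (EtCoh.const U ℤ) G p ∘
      fun x => (Ext.mk₀ (shriekZTo j)).comp x (zero_add p) :=
    funext fun x => (Hpull_apply j G p x).trans
      (hp_eq (EtCoh.pull j) (EtCore.pullConst j ℤ).inv (shriekAdj j) G p x)
  have hb := adjExtMap_bijective (shriekAdj j) (EtCoh.const U ℤ) G p
  rw [h]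
  exact ⟨Function.Bijective.of_comp_iff' hb _, Function.Injective.of_comp_iff hb.1 _⟩

theorem restriction_iff [PreservesFiniteLimits (EtCoh.pull j)] (G : EtCoh.Ab X) (n : ℕ) :
    ((∀ p, p + 1 < n → Function.Bijective (EtCore.Hpull j G p)) ∧
      (∀ p, p + 1 = n → Function.Injective (EtCore.Hpull j G p))) ↔
    ∀ p, p < n → Subsingleton (Ext (ZY j) G p) := by
  haveI := mono_shriekZTo j
  let S := ShortComplex.mk (shriekZTo j) (πY j) (cokernel.condition _)
  have hS : S.ShortExact :=
    { exact := ShortComplex.exact_of_g_is_cokernel _ (cokernelIsCokernel (shriekZTo j))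
      mono_f := inferInstanceAs (Mono (shriekZTo j)), epi_g := inferInstanceAs (Epi (cokernel.π _)) }
  constructor
  · rintro ⟨hb, hi⟩ p hp
    have hinj : Function.Injective fun x : Ext (EtCoh.const X ℤ) G p =>
        (Ext.mk₀ (shriekZTo j)).comp x (zero_add p) := by
      rcases (Nat.lt_or_eq_of_le (Nat.succ_le_of_lt hp)) with h | h
      · exact ((bijective_Hpull_iff j G p).1.1 (hb p h)).1
      · exact (bijective_Hpull_iff j G p).2.1 (hi p h)
    refine subsingleton_of_forall_eq 0 fun x => ?_
    have h0 : (Ext.mk₀ S.g).comp x (zero_add p) = 0 := hinj (by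
      show (Ext.mk₀ S.f).comp ((Ext.mk₀ S.g).comp x (zero_add p)) (zero_add p) =
        (Ext.mk₀ (shriekZTo j)).comp 0 (zero_add p)
      rw [Ext.mk₀_comp_mk₀_assoc, S.zero, Ext.mk₀_zero, Ext.zero_comp, Ext.comp_zero])
    rcases Nat.eq_zero_or_pos p with rfl | hpos
    · obtain ⟨f, rfl⟩ := (Ext.mk₀_bijective _ _).2 x
      rw [Ext.mk₀_comp_mk₀] at h0
      have hf : S.g ≫ f = 0 := (Ext.mk₀_bijective _ _).1 (h0.trans (Ext.mk₀_zero _ _).symm)
      rw [(cancel_epi (πY j)).1 (hf.trans comp_zero.symm), Ext.mk₀_zero]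
    · obtain ⟨q, rfl⟩ : ∃ q, p = q + 1 := ⟨p - 1, by omega⟩
      obtain ⟨y, rfl⟩ := Ext.contravariant_sequence_exact₃ hS G x h0 (n₀ := q) (add_comm 1 q)
      obtain ⟨z, rfl⟩ := ((bijective_Hpull_iff j G q).1.1 (hb q (by omega))).2 y
      show hS.extClass.comp ((Ext.mk₀ S.f).comp z (zero_add q)) _ = 0
      rw [← Ext.comp_assoc _ _ _ (add_zero 1) (zero_add q) (by omega), hS.extClass_comp, Ext.zero_comp]
  · intro h
    have hinj : ∀ p, p < n → Function.Injective fun x : Ext (EtCoh.const X ℤ) G p =>
        (Ext.mk₀ (shriekZTo j)).comp x (zero_add p) := fun p hp x y e => by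
      refine sub_eq_zero.1 ?_
      obtain ⟨z, hz⟩ := Ext.contravariant_sequence_exact₂ hS G (x - y) (by
        show (Ext.mk₀ (shriekZTo j)).comp (x - y) (zero_add p) = 0
        rw [sub_eq_add_neg, Ext.comp_add, Ext.comp_neg]
        exact (sub_eq_add_neg _ _).symm.trans (sub_eq_zero.2 e))
      have := h p hp
      rw [← hz, Subsingleton.elim z 0]
      exact Ext.comp_zero _ _ _ _ _
    refine ⟨fun p hp => (bijective_Hpull_iff j G p).1.2 ⟨hinj p (by omega), fun y => ?_⟩,
      fun p hp => (bijective_Hpull_iff j G p).2.2 (hinj p (by omega))⟩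
    have := h (p + 1) hp
    exact Ext.contravariant_sequence_exact₁ hS G y (n₁ := p + 1) (by omega) (Subsingleton.elim _ _)

section Transfer

variable {X' U' : Scheme.{u}} (π : X' ⟶ X) [AlgebraicGeometry.Etale π] [EtCoh.BCCont π]
  (j' : U' ⟶ X') [IsOpenImmersion j'] [EtCoh.BCCont j']
  (hU : Set.range j'.base = π.base ⁻¹' Set.range j.base)

include hU in
theorem subsingleton_ext_of_depthGE (F : EtCoh.Ab X) (n : ℕ) (h : EtDepth.DepthGE j F n) (p : ℕ)
    (hp : p < n) : Subsingleton (Ext (ZY j') ((EtCoh.pull π).obj F) p) := by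
  refine subsingleton_ext_of_exactAt j' (injectiveResolution ((EtCoh.pull π).obj F)) n (fun q hq => ?_) p hp
  obtain ⟨e⟩ := pull_locCoh_iso j π j' hU F q
  haveI := secSupp_preservesInjective j'
  haveI := LocCohLib.pull_additive π
  exact exactAt_of_rightDerived_eq_zero (EtDual.secSupp j') _ q
    (((EtCoh.pull π).map_isZero (h q hq)).of_iso e.symm)

include hU in
theorem gsec_exact (F : EtCoh.Ab X) (I : InjectiveResolution F) (p : ℕ)
    (h : Subsingleton (Ext (ZY j') ((EtCoh.pull π).obj F) p))
    (s : ↑((EtCore.gsec X').obj ((EtCoh.pull π).obj ((suppCx j I).X p))))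
    (hs : (EtCore.gsec X').map ((EtCoh.pull π).map ((suppCx j I).d p (p + 1))) s = 0) :
    ∃ s', (EtCore.gsec X').map ((EtCoh.pull π).map ((suppCx j I).d (p - 1) p)) s' = s := by
  haveI := EtFound.pull_preservesFiniteLimits π
  haveI := LocCohLib.pull_additive π
  haveI := LocCohLib.pull_preservesInjective π
  let P := EtCoh.pull π
  haveI : PreservesFiniteColimits P :=
    haveI := (EtCoh.pullPushAdj π).leftAdjoint_preservesColimits; inferInstance
  let J : InjectiveResolution (P.obj F) :=
    { cocomplex := (P.mapHomologicalComplex (ComplexShape.up ℕ)).obj I.cocomplex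
      ι := RDer.mapAug P I.ι
      quasiIso := by unfold RDer.mapAug; infer_instance }
  let φ := pullSecSuppIso j π j' hU
  have hn : ∀ a b, P.map ((suppCx j I).d a b) ≫ φ.hom.app (I.cocomplex.X b) =
      φ.hom.app (I.cocomplex.X a) ≫ (suppCx j' J).d a b := fun a b =>
    φ.hom.naturality (I.cocomplex.d a b)
  let g := EtCore.gsec X'
  have hmap : ∀ {A B C : EtCoh.Ab X'} (a : A ⟶ B) (b : B ⟶ C) (z : ↑(g.obj A)),
      g.map b (g.map a z) = g.map (a ≫ b) z :=
    fun a b z => (ConcreteCategory.congr_hom (g.map_comp a b) z).symm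
  have hz : g.map ((suppCx j' J).d p (p + 1)) (g.map (φ.hom.app (I.cocomplex.X p)) s) = 0 := by
    refine (hmap _ _ s).trans ((congrArg (fun f => g.map f s) (hn p (p + 1))).symm.trans ?_)
    refine (hmap _ _ s).symm.trans ((congrArg _ hs).trans ?_)
    exact map_zero _
  obtain ⟨t, ht⟩ := gsec_exact_of_subsingleton j' J p h _ hz
  refine ⟨g.map (φ.inv.app (I.cocomplex.X (p - 1))) t, ?_⟩
  have hn' : φ.inv.app (I.cocomplex.X (p - 1)) ≫ P.map ((suppCx j I).d (p - 1) p) =
      (suppCx j' J).d (p - 1) p ≫ φ.inv.app (I.cocomplex.X p) :=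
    (φ.inv.naturality (I.cocomplex.d (p - 1) p)).symm
  refine (hmap _ _ t).trans ((congrArg (fun f => g.map f t) hn').trans ?_)
  refine (hmap _ _ t).symm.trans ((congrArg _ ht).trans ?_)
  refine (hmap _ _ s).trans ((congrArg (fun f => g.map f s) (φ.hom_inv_id_app _)).trans ?_)
  exact ConcreteCategory.congr_hom (g.map_id _) s

end Transfer

theorem exact_of_evaluation' {C : Type (u + 1)} [Category.{u} C]
    (S : ShortComplex (Cᵒᵖ ⥤ AddCommGrpCat.{u + 1}))
    (h : ∀ U, (S.map ((evaluation Cᵒᵖ AddCommGrpCat.{u + 1}).obj U)).Exact) : S.Exact := by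
  rw [S.exact_iff_isZero_homology]
  refine Functor.isZero _ fun U => ?_
  exact IsZero.of_iso ((ShortComplex.exact_iff_isZero_homology _).1 (h U))
    (S.mapHomologyIso ((evaluation Cᵒᵖ AddCommGrpCat.{u + 1}).obj U)).symm

theorem exact_of_evaluations (S : ShortComplex (EtCoh.Ab X))
    (h : ∀ (V : X.Etale) (s : ↑(S.X₂.obj.obj (op V))), S.g.hom.app (op V) s = 0 →
      ∃ t, S.f.hom.app (op V) t = s) : S.Exact := by
  let ι := sheafToPresheaf X.smallEtaleTopology AddCommGrpCat.{u + 1}
  let a := presheafToSheaf X.smallEtaleTopology AddCommGrpCat.{u + 1}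
  haveI : ι.Additive := inferInstance
  haveI : PreservesFiniteColimits a :=
    haveI := (sheafificationAdjunction X.smallEtaleTopology AddCommGrpCat.{u + 1}).leftAdjoint_preservesColimits
    inferInstance
  haveI : a.Additive := (sheafificationAdjunction X.smallEtaleTopology AddCommGrpCat.{u + 1}).left_adjoint_additive
  have hP : (S.map ι).Exact := by
    refine exact_of_evaluation' _ fun V => ?_
    exact (ShortComplex.ab_exact_iff _).2 fun s hs => h V.unop s hs
  have h2 : ((S.map ι).map a).Exact := hP.map a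
  let e := asIso (sheafificationAdjunction X.smallEtaleTopology AddCommGrpCat.{u + 1}).counit
  exact (ShortComplex.exact_iff_of_iso (ShortComplex.isoMk (e.app S.X₁) (e.app S.X₂) (e.app S.X₃)
    (e.hom.naturality S.f).symm (e.hom.naturality S.g).symm)).1 h2

theorem depthGE_iff (F : EtCoh.Ab X) (n : ℕ) : EtDepth.DepthGE j F n ↔
    ∀ (X' : Scheme.{u}) (g : X' ⟶ X) [AlgebraicGeometry.Etale g]
      [PreservesFiniteLimits (EtCoh.pull (pullback.snd j g))],
      (∀ p : ℕ, p + 1 < n → Function.Bijective (EtCore.Hpull (pullback.snd j g) ((EtCoh.pull g).obj F) p)) ∧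
      (∀ p : ℕ, p + 1 = n → Function.Injective (EtCore.Hpull (pullback.snd j g) ((EtCoh.pull g).obj F) p)) := by
  constructor
  · intro h X' g _ _
    exact (restriction_iff (pullback.snd j g) _ n).2 fun p hp =>
      subsingleton_ext_of_depthGE j g (pullback.snd j g) (Scheme.Pullback.range_snd j g) F n h p hp
  · intro h p hp
    let I := injectiveResolution F
    refine IsZero.of_iso ?_ (I.isoRightDerivedObj (EtDual.secSupp j) p)
    show IsZero ((suppCx j I).homology p)
    rw [← HomologicalComplex.exactAt_iff_isZero_homology,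
      (suppCx j I).exactAt_iff' (p - 1) p (p + 1) (prev_up_nat p) (by simp)]
    refine exact_of_evaluations _ fun V s hs => ?_
    let gV : V.left ⟶ X := V.hom
    have : AlgebraicGeometry.Etale gV := V.prop
    haveI := EtFound.jCont gV
    haveI : PreservesFiniteLimits (EtCoh.pull (pullback.snd j gV)) :=
      EtFound.pull_preservesFiniteLimits (pullback.snd j gV)
    let e : (EtShriek.compEtale gV).obj (EtCoh.top V.left) ≅ V :=
      MorphismProperty.Over.isoMk (Iso.refl V.left) rfl
    let E := Functor.isoWhiskerRight (LocCohLib.restrIsoPull' gV) (EtCore.gsec V.left)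
    let c : ∀ G : EtCoh.Ab X, ↑(G.obj.obj (op V)) → ↑((EtCore.gsec V.left).obj ((EtCoh.pull gV).obj G)) :=
      fun G s => E.hom.app G (G.obj.map e.hom.op s)
    have hc : ∀ {G G' : EtCoh.Ab X} (f : G ⟶ G') (s : ↑(G.obj.obj (op V))),
        (EtCore.gsec V.left).map ((EtCoh.pull gV).map f) (c G s) = c G' (f.hom.app (op V) s) :=
      fun {G G'} f s => by
        refine (ConcreteCategory.congr_hom (E.hom.naturality f) _).symm.trans ?_
        exact congrArg (E.hom.app G') (NatTrans.naturality_apply f.hom e.hom.op s)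
    have hbij : ∀ G, Function.Bijective (c G) := fun G =>
      (ConcreteCategory.bijective_of_isIso (E.hom.app G)).comp
        (ConcreteCategory.bijective_of_isIso (G.obj.map e.hom.op))
    obtain ⟨t, ht⟩ := gsec_exact j gV (pullback.snd j gV) (Scheme.Pullback.range_snd j gV) F I p
      ((restriction_iff (pullback.snd j gV) _ n).1 (h V.left gV) p hp) (c _ s)
      ((hc _ s).trans ((congrArg (c _) hs).trans (by
        show E.hom.app _ (((suppCx j I).X (p + 1)).obj.map e.hom.op 0) = 0
        rw [map_zero]; exact map_zero _)))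
    obtain ⟨t₀, rfl⟩ := (hbij _).2 t
    exact ⟨t₀, (hbij _).1 ((hc _ t₀).symm.trans ht)⟩

end Groth.Agent.DepthExt5
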