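import Groth.Agent.LocCohLib.SecSupp
import Groth.Agent.LocCohLib.Restrict
import Groth.Agent.LocCohLib.OpenSES
import Groth.Agent.LocCohLib.Edge
import Groth.Agent.EtMVLib.MV
import Mathlib.CategoryTheory.Abelian.Injective.Ext
import Groth.Prelude.Def_EtDepth

/-! depth along a closed subset via Ext from `ℤ` on the closed subset -/

set_option autoImplicit false
set_option backward.isDefEq.respectTransparency false
set_option backward.isDefEq.respectTransparency.types false
universe u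

open CategoryTheory CategoryTheory.Limits AlgebraicGeometry Opposite CategoryTheory.Abelian

noncomputable section

namespace Groth.Agent.DepthExt5

open Groth.Agent.EtMVLib Groth.Agent.LocCohLib

variable {X U : Scheme.{u}} (j : U ⟶ X) [IsOpenImmersion j] [EtCoh.BCCont j]

theorem mono_shriekZTo : Mono (shriekZTo j) := by
  haveI := preservesMono_extZero j
  haveI := mono_shriekAdj_counit j (EtCoh.const X ℤ)
  rw [shriekZTo, Adjunction.homEquiv_counit]
  infer_instance

/-- `i_* ℤ` -/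
abbrev ZY : EtCoh.Ab X := cokernel (shriekZTo j)

/-- the projection `ℤ ⟶ i_* ℤ` -/
abbrev πY : EtCoh.const X ℤ ⟶ ZY j := cokernel.π (shriekZTo j)

theorem shriekZTo_comp_eq_zero_iff {I : EtCoh.Ab X} (ψ : EtCoh.const X ℤ ⟶ I) :
    shriekZTo j ≫ ψ = 0 ↔ ψ ≫ EtDual.unitApp j I = 0 := by
  haveI := LocCohLib.pull_additive j
  rw [comp_unitApp_eq_zero_iff, shriekZTo]
  constructor
  · intro h
    have h' := congrArg ((shriekAdj j).homEquiv _ _) h
    rw [Adjunction.homEquiv_naturality_right, Equiv.apply_symm_apply] at h'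
    rw [show ((shriekAdj j).homEquiv (EtCoh.const U ℤ) I) 0 = 0 by
      simp [Adjunction.homEquiv_unit]] at h'
    exact (cancel_epi (EtCore.pullConst j ℤ).inv).1 (h'.trans comp_zero.symm)
  · intro h
    haveI := (shriekAdj j).left_adjoint_additive
    rw [← Adjunction.homEquiv_naturality_right_symm, h, comp_zero, Adjunction.homEquiv_counit,
      Functor.map_zero, zero_comp]

/-- maps out of `ℤ` are global sections -/
def ev {G : EtCoh.Ab X} (ψ : EtCoh.const X ℤ ⟶ G) : ↑((EtCore.gsec X).obj G) :=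
  (EtCore.constAdj X).homEquiv (AddCommGrpCat.of (ULift.{u + 1} ℤ)) G ψ ⟨1⟩

theorem ev_comp {G G' : EtCoh.Ab X} (ψ : EtCoh.const X ℤ ⟶ G) (f : G ⟶ G') :
    ev (ψ ≫ f) = (EtCore.gsec X).map f (ev ψ) := by
  rw [ev, ev, Adjunction.homEquiv_naturality_right]
  rfl

theorem ev_injective {G : EtCoh.Ab X} : Function.Injective (ev (G := G)) := by
  intro ψ ψ' h
  refine ((EtCore.constAdj X).homEquiv _ _).injective ?_
  ext n
  obtain ⟨k⟩ := n
  rw [show (⟨k⟩ : ULift.{u + 1} ℤ) = k • ⟨1⟩ from ULift.ext _ _ (by simp), map_zsmul, map_zsmul]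
  exact congrArg (k • ·) h

theorem ev_surjective {G : EtCoh.Ab X} (s : ↑((EtCore.gsec X).obj G)) :
    ∃ ψ : EtCoh.const X ℤ ⟶ G, ev ψ = s := by
  refine ⟨((EtCore.constAdj X).homEquiv (AddCommGrpCat.of (ULift.{u + 1} ℤ)) G).symm
    (AddCommGrpCat.ofHom ((zmultiplesHom _ s).comp AddEquiv.ulift.toAddMonoidHom)), ?_⟩
  rw [ev, Equiv.apply_symm_apply]
  exact one_zsmul s

variable {G : EtCoh.Ab X} (R : InjectiveResolution G)

/-- sections supported off `U` of a resolution -/
abbrev suppCx : CochainComplex (EtCoh.Ab X) ℕ :=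
  ((EtDual.secSupp j).mapHomologicalComplex (ComplexShape.up ℕ)).obj R.cocomplex

theorem subsingleton_ext_of_exactAt (n : ℕ) (h : ∀ p, p < n → (suppCx j R).ExactAt p) (p : ℕ)
    (hp : p < n) : Subsingleton (Ext (ZY j) G p) := by
  haveI := secSupp_preservesInjective j
  haveI : ∀ q, Injective ((suppCx j R).X q) := fun q =>
    (EtDual.secSupp j).injective_obj (R.cocomplex.X q)
  obtain ⟨t, ht⟩ := regDiff_of_exact (suppCx j R) p fun q hq => h q (hq.trans hp)
  have hex : ((suppCx j R).sc' (p - 1) p (p + 1)).Exact :=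
    ((suppCx j R).exactAt_iff' (p - 1) p (p + 1) (prev_up_nat p) (by simp)).1 (h p hp)
  have key : ∀ (φ : ZY j ⟶ R.cocomplex.X p), φ ≫ R.cocomplex.d p (p + 1) = 0 →
      ∃ g : ZY j ⟶ R.cocomplex.X (p - 1), g ≫ R.cocomplex.d (p - 1) p = φ := by
    intro φ hφ
    let χ : EtCoh.const X ℤ ⟶ (suppCx j R).X p := kernel.lift _ (πY j ≫ φ)
      ((shriekZTo_comp_eq_zero_iff j _).1 (by rw [cokernel.condition_assoc, zero_comp]))
    have hχ : χ ≫ (suppCx j R).d p (p + 1) = 0 := by
      rw [← cancel_mono (kernel.ι _)]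
      simp [χ, hφ]
    have e : (χ ≫ t) ≫ (suppCx j R).d (p - 1) p = χ := by
      have h1 : (𝟙 _ - t ≫ (suppCx j R).d (p - 1) p : (suppCx j R).X p ⟶ _) =
          0 + (𝟙 _ - t ≫ (suppCx j R).d (p - 1) p) := (zero_add _).symm
      have h2 : (suppCx j R).d (p - 1) p ≫ (𝟙 _ - t ≫ (suppCx j R).d (p - 1) p) = 0 := by
        rw [Preadditive.comp_sub, Category.comp_id, ht, sub_self]
      haveI : Epi ((suppCx j R).sc' (p - 1) p (p + 1)).toCycles :=
        (ShortComplex.exact_iff_epi_toCycles _).1 hex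
      have h3 : ((suppCx j R).sc' (p - 1) p (p + 1)).iCycles ≫
          (𝟙 _ - t ≫ (suppCx j R).d (p - 1) p) = 0 := by
        rw [← cancel_epi ((suppCx j R).sc' (p - 1) p (p + 1)).toCycles, comp_zero,
          ShortComplex.toCycles_i_assoc]
        exact h2
      have h4 : χ ≫ (𝟙 _ - t ≫ (suppCx j R).d (p - 1) p) = 0 := by
        rw [← ((suppCx j R).sc' (p - 1) p (p + 1)).liftCycles_i χ hχ, Category.assoc, h3, comp_zero]
      rw [Preadditive.comp_sub, Category.comp_id, sub_eq_zero, ← Category.assoc] at h4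
      exact h4.symm
    refine ⟨cokernel.desc _ ((χ ≫ t) ≫ kernel.ι _) ((shriekZTo_comp_eq_zero_iff j _).2
      (by rw [Category.assoc, kernel.condition, comp_zero])), ?_⟩
    rw [← cancel_epi (πY j), cokernel.π_desc_assoc]
    have := congr($e ≫ kernel.ι _)
    simp only [χ, kernel.lift_ι] at this
    simpa [Category.assoc] using this
  refine subsingleton_of_forall_eq 0 fun α => ?_
  obtain ⟨φ, hφ, rfl⟩ := R.extMk_surjective α (p + 1) rfl
  obtain ⟨g, hg⟩ := key φ hφ
  rcases Nat.eq_zero_or_pos p with rfl | hpos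
  · have : φ = 0 := by
      rw [← hg, R.cocomplex.shape (0 - 1) 0 (by simp), comp_zero]
    subst this
    exact R.extMk_zero (0 + 1) rfl
  · exact (R.extMk_eq_zero_iff φ (p + 1) rfl hφ (p - 1) (by omega)).2 ⟨g, hg⟩

theorem gsec_exact_of_subsingleton (p : ℕ) (h : Subsingleton (Ext (ZY j) G p))
    (s : ↑((EtCore.gsec X).obj ((suppCx j R).X p)))
    (hs : (EtCore.gsec X).map ((suppCx j R).d p (p + 1)) s = 0) :
    ∃ s' : ↑((EtCore.gsec X).obj ((suppCx j R).X (p - 1))),
      (EtCore.gsec X).map ((suppCx j R).d (p - 1) p) s' = s := by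
  obtain ⟨χ, rfl⟩ := ev_surjective s
  have hχ : χ ≫ (suppCx j R).d p (p + 1) = 0 := ev_injective (by
    rw [ev_comp, hs]
    exact ((map_zero ((EtCore.gsec X).map (0 : (suppCx j R).X p ⟶ (suppCx j R).X (p + 1))).hom).symm.trans
      (by rw [ev, Adjunction.homEquiv_unit]; simp)))
  let φ : ZY j ⟶ R.cocomplex.X p := cokernel.desc _ (χ ≫ kernel.ι _)
    ((shriekZTo_comp_eq_zero_iff j _).2 (by rw [Category.assoc, kernel.condition, comp_zero]))
  have hφ : φ ≫ R.cocomplex.d p (p + 1) = 0 := by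
    rw [← cancel_epi (πY j), cokernel.π_desc_assoc, comp_zero]
    have := congr($hχ ≫ kernel.ι _)
    simpa [Category.assoc] using this
  have h0 : R.extMk φ (p + 1) rfl hφ = 0 := Subsingleton.elim _ _
  obtain ⟨g, hg⟩ : ∃ g : ZY j ⟶ R.cocomplex.X (p - 1), g ≫ R.cocomplex.d (p - 1) p = φ := by
    rcases Nat.eq_zero_or_pos p with rfl | hpos
    · refine ⟨0, ?_⟩
      rw [zero_comp]
      have hk : φ ≫ R.cocomplex.d 0 1 = 0 := hφ
      let ψ : ZY j ⟶ G := R.isLimitKernelFork.lift (KernelFork.ofι φ hk)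
      have hψ : ψ ≫ R.ι.f 0 = φ := R.isLimitKernelFork.fac _ WalkingParallelPair.zero
      have : ψ = 0 := (Ext.mk₀_bijective _ _).1 (Subsingleton.elim _ _)
      rw [← hψ, this]
      exact zero_comp.symm
    · exact (R.extMk_eq_zero_iff φ (p + 1) rfl hφ (p - 1) (by omega)).1 h0
  refine ⟨ev (kernel.lift _ (πY j ≫ g)
    ((shriekZTo_comp_eq_zero_iff j _).1 (by rw [cokernel.condition_assoc, zero_comp]))), ?_⟩
  rw [← ev_comp]
  refine congrArg ev ?_
  rw [← cancel_mono (kernel.ι _)]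
  simp [φ, hg]

end Groth.Agent.DepthExt5
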